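import Groth.Agent.Unram17.K133.SmoothNhd
import Groth.Agent.S4366
import Groth.Agent.Dix.NormalLoc
import Groth.Agent.Ega43.SmoothReduced
import Groth.Agent.Desc.NormalSmooth

/-!
# The local ring at a smooth point as a local ring of a scheme smooth over the local ring of the base
-/

set_option autoImplicit false
universe u

open CategoryTheory CategoryTheory.Limits AlgebraicGeometry TopologicalSpace

namespace K133.StalkBC

theorem ringEquiv_of_isIso_stalkMap {X Y : Scheme.{u}} (f : X ⟶ Y) (x : X) {y : Y} (h : f x = y)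
    [IsIso (f.stalkMap x)] : Nonempty (Y.presheaf.stalk y ≃+* X.presheaf.stalk x) := by
  subst h
  exact ⟨(asIso (f.stalkMap x)).commRingCatIsoToRingEquiv⟩

/-- The local ring at a smooth point is the local ring of a scheme smooth over the local ring of the base. -/
theorem exists_smooth_over_stalk {X Y : Scheme.{u}} (f : X ⟶ Y) [LocallyOfFinitePresentation f]
    (x : X) (hx : x ∈ f.smoothLocus) :
    ∃ (P : Scheme.{u}) (p : P ⟶ Spec (CommRingCat.of (Y.presheaf.stalk (f x)))) (t : P), Smooth p ∧
      Nonempty (P.presheaf.stalk t ≃+* X.presheaf.stalk x) := by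
  obtain ⟨U, hxU, hU⟩ := (K133.SmoothNhd.mem_smoothLocus_iff_exists f x).mp hx
  let g := U.ι ≫ f
  let s := Y.fromSpecStalk (f x)
  obtain ⟨t, ht1, -⟩ := Scheme.Pullback.exists_preimage_pullback (f := g) (g := s)
    ⟨x, hxU⟩ (IsLocalRing.closedPoint _) (by
      rw [Scheme.fromSpecStalk_closedPoint]
      exact Scheme.Hom.comp_apply _ _ _)
  refine ⟨pullback g s, pullback.snd g s, t, inferInstance, ?_⟩
  have h1 : IsIso ((pullback.fst g s).stalkMap t) := Groth.Agent.S4366.result g (f x) t
  have h0 : ∀ z : U, IsIso (U.ι.stalkMap z) := fun z => inferInstance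
  have h2 : IsIso (((pullback.fst g s) ≫ U.ι).stalkMap t) := by
    rw [Scheme.Hom.stalkMap_comp]
    exact IsIso.comp_isIso' (h0 _) h1
  have h3 : ((pullback.fst g s) ≫ U.ι) t = x := by
    rw [Scheme.Hom.comp_apply, ht1]
    rfl
  obtain ⟨e⟩ := ringEquiv_of_isIso_stalkMap ((pullback.fst g s) ≫ U.ι) t h3
  exact ⟨e.symm⟩

/-- A scheme smooth over a reduced ring has reduced local rings. -/
theorem isReduced_stalk_of_smooth {R : Type u} [CommRing R] [_root_.IsReduced R]
    {X : Scheme.{u}} (p : X ⟶ Spec (CommRingCat.of R)) [Smooth p] (x : X) :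
    _root_.IsReduced (X.presheaf.stalk x) := by
  obtain ⟨_, ⟨V : X.Opens, hV, rfl⟩, hxV, -⟩ :=
    X.isBasis_affineOpens.exists_subset_of_mem_open (Set.mem_univ x) isOpen_univ
  obtain ⟨y, rfl⟩ : ∃ y : Spec Γ(X, V), hV.fromSpec y = x := by
    have : x ∈ hV.fromSpec.opensRange := by rw [hV.opensRange_fromSpec]; exact hxV
    exact this
  obtain ⟨φ, hφ⟩ := Spec.map_surjective (hV.fromSpec ≫ p)
  have hsm : Smooth (Spec.map φ) := by rw [hφ]; infer_instance
  rw [HasRingHomProperty.Spec_iff (P := @Smooth)] at hsm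
  let : Algebra R Γ(X, V) := φ.hom.toAlgebra
  have : Algebra.Smooth R Γ(X, V) := hsm
  have hr : _root_.IsReduced Γ(X, V) := Groth.Agent.Ega43.SmoothReduced.isReduced_of_smooth R Γ(X, V)
  let e : (Spec Γ(X, V)).presheaf.stalk y ≃+* Localization.AtPrime y.asIdeal :=
    (Spec.stalkIso Γ(X, V) y).commRingCatIsoToRingEquiv
  have h2 : _root_.IsReduced (Localization.AtPrime y.asIdeal) :=
    isReduced_localizationPreserves y.asIdeal.primeCompl _ hr
  have h1 : _root_.IsReduced ((Spec Γ(X, V)).presheaf.stalk y) :=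
    isReduced_of_injective e e.injective
  let e' := (asIso (hV.fromSpec.stalkMap y)).commRingCatIsoToRingEquiv
  exact isReduced_of_injective e' e'.injective

variable {X Y : Scheme.{u}} (f : X ⟶ Y) [LocallyOfFinitePresentation f] (x : X)
  (hx : x ∈ f.smoothLocus)

include hx in
theorem isReduced_iff : _root_.IsReduced (X.presheaf.stalk x) ↔
    _root_.IsReduced (Y.presheaf.stalk (f x)) := by
  constructor
  · intro h
    have h1 := Groth.Agent.Smoothlim.SmoothLocusBC.flat_stalkMap_of_mem_smoothLocus hx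
    algebraize [(f.stalkMap x).hom]
    have : IsLocalHom (algebraMap (Y.presheaf.stalk (f x)) (X.presheaf.stalk x)) :=
      inferInstanceAs (IsLocalHom (f.stalkMap x).hom)
    have : Module.FaithfullyFlat (Y.presheaf.stalk (f x)) (X.presheaf.stalk x) :=
      Module.FaithfullyFlat.of_flat_of_isLocalHom
    exact isReduced_of_injective (algebraMap (Y.presheaf.stalk (f x)) (X.presheaf.stalk x))
      (FaithfulSMul.algebraMap_injective _ _)
  · intro h
    obtain ⟨P, p, t, hp, ⟨e⟩⟩ := exists_smooth_over_stalk f x hx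
    have := isReduced_stalk_of_smooth p t
    exact isReduced_of_injective e.symm e.symm.injective

include hx in
theorem isNormal_iff : (IsDomain (X.presheaf.stalk x) ∧ IsIntegrallyClosed (X.presheaf.stalk x)) ↔
    (IsDomain (Y.presheaf.stalk (f x)) ∧ IsIntegrallyClosed (Y.presheaf.stalk (f x))) := by
  constructor
  · rintro ⟨h, h'⟩
    have h1 := Groth.Agent.Smoothlim.SmoothLocusBC.flat_stalkMap_of_mem_smoothLocus hx
    algebraize [(f.stalkMap x).hom]
    have : IsLocalHom (algebraMap (Y.presheaf.stalk (f x)) (X.presheaf.stalk x)) :=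
      inferInstanceAs (IsLocalHom (f.stalkMap x).hom)
    have : Module.FaithfullyFlat (Y.presheaf.stalk (f x)) (X.presheaf.stalk x) :=
      Module.FaithfullyFlat.of_flat_of_isLocalHom
    exact Groth.Agent.Desc.NormalSmooth.isIntegrallyClosed_of_faithfullyFlat
      (A := Y.presheaf.stalk (f x)) (B := X.presheaf.stalk x)
  · rintro ⟨h, h'⟩
    obtain ⟨P, p, t, hp, ⟨e⟩⟩ := exists_smooth_over_stalk f x hx
    obtain ⟨h1, h2⟩ := Groth.Agent.Dix.NormalLoc.stalk_of_smooth p t
    have hd : IsDomain (X.presheaf.stalk x) := e.symm.toMulEquiv.isDomain _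
    exact ⟨hd, IsIntegrallyClosed.of_equiv e⟩

end K133.StalkBC
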