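import Groth.Agent.Smoothlim.SmoothLocusBC
import Groth.Agent.VarietyA.RegSmoothSch
import Groth.Agent.Flat2D.PbStalk
import Groth.Agent.Ega4A.RegEtale
import Groth.Agent.S0565
import Mathlib.AlgebraicGeometry.Noetherian

/-!
# Smooth points: pointwise form, fibres, local rings

* `mem_smoothLocus_iff_exists`
* `locallyOfFinitePresentation` (finite type over locally Noetherian)
* `mem_smoothLocus_of_nhd`
* `asFiber_mem_smoothLocus`
* `isRegularLocalRing_quot_of_mem_smoothLocus` : the local ring of the fibre is regular.
-/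

set_option autoImplicit false
universe u

open CategoryTheory CategoryTheory.Limits AlgebraicGeometry TopologicalSpace
open Groth.Agent.Flat2D.PbStalk Groth.Agent.Smoothlim.SmoothLocusBC

namespace K133.SmoothNhd

variable {X Y : Scheme.{u}} (f : X ⟶ Y)

theorem mem_smoothLocus_iff_exists [LocallyOfFinitePresentation f] (x : X) :
    x ∈ f.smoothLocus ↔ ∃ U : X.Opens, x ∈ U ∧ Smooth (U.ι ≫ f) := by
  constructor
  · intro hx
    refine ⟨f.smoothLocus, hx, ?_⟩
    rw [← Scheme.Hom.smoothLocus_eq_top_iff, ← Scheme.Hom.preimage_smoothLocus_eq]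
    exact Scheme.Opens.ι_preimage_self _
  · rintro ⟨U, hxU, hU⟩
    have h1 := Scheme.Hom.smoothLocus_eq_top (U.ι ≫ f)
    rw [← Scheme.Hom.preimage_smoothLocus_eq] at h1
    have h2 : (⟨x, hxU⟩ : U) ∈ U.ι ⁻¹ᵁ f.smoothLocus := by rw [h1]; trivial
    exact h2

theorem locallyOfFinitePresentation [IsLocallyNoetherian Y] [LocallyOfFiniteType f] :
    LocallyOfFinitePresentation f where
  finitePresentation_appLE {U} hU {V} hV e := by
    have : IsNoetherianRing Γ(Y, U) := IsLocallyNoetherian.component_noetherian ⟨U, hU⟩
    exact RingHom.FinitePresentation.of_finiteType.1 (f.finiteType_appLE hU hV e)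

/-- the point of the fibre over a smooth point is a smooth point of the fibre. -/
theorem asFiber_mem_smoothLocus [LocallyOfFinitePresentation f] {x : X}
    [LocallyOfFinitePresentation (f.fiberToSpecResidueField (f x))] (hx : x ∈ f.smoothLocus) :
    f.asFiber x ∈ (f.fiberToSpecResidueField (f x)).smoothLocus := by
  have H : IsPullback (f.fiberι (f x)) (f.fiberToSpecResidueField (f x)) f
    (Y.fromSpecResidueField (f x)) := IsPullback.of_hasPullback _ _
  rw [mem_smoothLocus_iff_of_isPullback H (f.asFiber x)]
  · rw [f.fiberι_asFiber]; exact hx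
  · left
    rw [f.fiberι_asFiber]; exact flat_stalkMap_of_mem_smoothLocus hx

/-- the local ring of the fibre at a smooth point is regular. -/
theorem isRegularLocalRing_quot [LocallyOfFinitePresentation f] {x : X} (hx : x ∈ f.smoothLocus) :
    IsRegularLocalRing (X.presheaf.stalk x ⧸ fiberIdeal f x) := by
  have : LocallyOfFinitePresentation (f.fiberToSpecResidueField (f x)) :=
    inferInstanceAs (LocallyOfFinitePresentation (pullback.snd f (Y.fromSpecResidueField (f x))))
  have h := Groth.Agent.VarietyA.RegSmoothSch.isRegularLocalRing_stalk_of_mem_smoothLocus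
    (k := Y.residueField (f x)) (f.fiberToSpecResidueField (f x)) (f.asFiber x)
    (asFiber_mem_smoothLocus f hx)
  exact IsRegularLocalRing.of_ringEquiv (fiberStalkEquiv f x).symm

/-- regularity of the local rings at a smooth point. -/
theorem isRegularLocalRing_stalk_iff [IsLocallyNoetherian Y] [LocallyOfFinitePresentation f] {x : X}
    (hx : x ∈ f.smoothLocus) :
    IsRegularLocalRing (X.presheaf.stalk x) ↔ IsRegularLocalRing (Y.presheaf.stalk (f x)) := by
  have : IsLocallyNoetherian X := LocallyOfFiniteType.isLocallyNoetherian f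
  have h1 := flat_stalkMap_of_mem_smoothLocus hx
  have h2 := isRegularLocalRing_quot f hx
  algebraize [(f.stalkMap x).hom]
  have : IsLocalHom (algebraMap (Y.presheaf.stalk (f x)) (X.presheaf.stalk x)) :=
    inferInstanceAs (IsLocalHom (f.stalkMap x).hom)
  constructor
  · intro h
    exact Groth.Agent.S0565.result (Y.presheaf.stalk (f x)) (X.presheaf.stalk x)
  · intro h
    have : IsRegularLocalRing (X.presheaf.stalk x ⧸ (IsLocalRing.maximalIdeal
      (Y.presheaf.stalk (f x))).map (algebraMap (Y.presheaf.stalk (f x)) (X.presheaf.stalk x))) := h2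
    exact Groth.Agent.Ega4A.RegEtale.isRegularLocalRing_of_flat_of_fibre
      (Y.presheaf.stalk (f x)) (X.presheaf.stalk x)

/-- the dimension formula at a flat point. -/
theorem ringKrullDim_stalk_eq_of_flat [IsLocallyNoetherian Y] [LocallyOfFiniteType f] {x : X}
    (hx : (f.stalkMap x).hom.Flat) :
    ringKrullDim (X.presheaf.stalk x) = ringKrullDim (Y.presheaf.stalk (f x)) +
      ringKrullDim (X.presheaf.stalk x ⧸ fiberIdeal f x) := by
  have : IsLocallyNoetherian X := LocallyOfFiniteType.isLocallyNoetherian f
  algebraize [(f.stalkMap x).hom]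
  have : IsLocalHom (algebraMap (Y.presheaf.stalk (f x)) (X.presheaf.stalk x)) :=
    inferInstanceAs (IsLocalHom (f.stalkMap x).hom)
  exact Groth.Agent.Ega4A.RegEtale.ringKrullDim_eq_add_of_flat
    (Y.presheaf.stalk (f x)) (X.presheaf.stalk x)

end K133.SmoothNhd
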