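import Mathlib.AlgebraicGeometry.Morphisms.FormallyUnramified
import Mathlib.AlgebraicGeometry.Morphisms.Separated
import Mathlib.AlgebraicGeometry.Fiber

/-!
# The coincidence locus of two morphisms to an unramified scheme
-/

set_option autoImplicit false
universe u

open CategoryTheory CategoryTheory.Limits AlgebraicGeometry TopologicalSpace

namespace K133.Rigid

variable {X Y S : Scheme.{u}} (h : Y ⟶ S) (f g : X ⟶ Y) (w : g ≫ h = f ≫ h)

/-- the coincidence scheme -/
noncomputable def eqι : pullback (pullback.lift f g w.symm) (pullback.diagonal h) ⟶ X :=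
  pullback.fst _ _

instance [FormallyUnramified h] [LocallyOfFiniteType h] : IsOpenImmersion (eqι h f g w) :=
  inferInstanceAs (IsOpenImmersion (pullback.fst _ _))

instance [IsSeparated h] : IsClosedImmersion (eqι h f g w) :=
  inferInstanceAs (IsClosedImmersion (pullback.fst _ _))

theorem eqι_comp : eqι h f g w ≫ f = eqι h f g w ≫ g := by
  have h1 : eqι h f g w ≫ pullback.lift f g w.symm = pullback.snd _ _ ≫ pullback.diagonal h :=
    pullback.condition
  have h2 := congrArg (· ≫ pullback.fst h h) h1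
  have h3 := congrArg (· ≫ pullback.snd h h) h1
  simp only [Category.assoc, pullback.lift_fst, pullback.lift_snd, pullback.diagonal_fst,
    pullback.diagonal_snd, Category.comp_id] at h2 h3
  rw [h2, h3]

theorem range_subset {T : Scheme.{u}} (t : T ⟶ X) (ht : t ≫ f = t ≫ g) :
    Set.range t ⊆ Set.range (eqι h f g w) := by
  let l : T ⟶ pullback (pullback.lift f g w.symm) (pullback.diagonal h) :=
    pullback.lift t (t ≫ f) (by
      apply pullback.hom_ext
      · simp only [Category.assoc, pullback.lift_fst, pullback.diagonal_fst, Category.comp_id]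
      · simp only [Category.assoc, pullback.lift_snd, pullback.diagonal_snd, Category.comp_id, ht])
  have hl : l ≫ eqι h f g w = t := pullback.lift_fst _ _ _
  rintro _ ⟨z, rfl⟩
  refine ⟨l z, ?_⟩
  rw [← Scheme.Hom.comp_apply, hl]

theorem comp_eq_of_range_subset [FormallyUnramified h] [LocallyOfFiniteType h] {T : Scheme.{u}}
    (t : T ⟶ X) (ht : Set.range t ⊆ Set.range (eqι h f g w)) : t ≫ f = t ≫ g := by
  rw [← IsOpenImmersion.lift_fac (eqι h f g w) t ht, Category.assoc, Category.assoc, eqι_comp]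

include w in
theorem exists_nhd [FormallyUnramified h] [LocallyOfFiniteType h] (hc : IsClosedMap (f ≫ h))
    (s : S) (hs : (f ≫ h).fiberι s ≫ f = (f ≫ h).fiberι s ≫ g) :
    ∃ V : S.Opens, s ∈ V ∧ ((V : Set S) = ((f ≫ h) '' (Set.range (eqι h f g w))ᶜ)ᶜ) ∧
      ((f ≫ h) ⁻¹ᵁ V).ι ≫ f = ((f ≫ h) ⁻¹ᵁ V).ι ≫ g := by
  have hU : IsOpen (Set.range (eqι h f g w)) := (eqι h f g w).isOpenEmbedding.isOpen_range
  refine ⟨⟨((f ≫ h) '' (Set.range (eqι h f g w))ᶜ)ᶜ, (hc _ hU.isClosed_compl).isOpen_compl⟩,
    ?_, rfl, ?_⟩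
  · rintro ⟨x, hx, hxs⟩
    apply hx
    apply range_subset h f g w _ hs
    rw [Scheme.Hom.range_fiberι]
    exact hxs
  · apply comp_eq_of_range_subset h f g w
    rw [Scheme.Opens.range_ι]
    intro x hx
    by_contra hx'
    exact hx ⟨x, hx', rfl⟩

end K133.Rigid
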