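import Groth.Agent.Unram17.K133.GenSmooth
import Groth.Agent.S2063
import Groth.Prelude.Def_Flat
import Mathlib.RingTheory.Spectrum.Prime.FreeLocus
import Mathlib.RingTheory.Kaehler.Basic

/-!
# Smoothness over a field from projectivity of differentials and smoothness at the minimal primes
-/

set_option autoImplicit false
universe u

open TensorProduct

namespace K133.ProjSmooth

theorem localDim_le_of_specializes {T : Type*} [TopologicalSpace T] {x x' : T} (h : x ⤳ x') :
    FlatMor.localDim T x ≤ FlatMor.localDim T x' :=
  le_iInf fun U => iInf_le (fun V : {V : TopologicalSpace.Opens T // x ∈ V} =>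
    topologicalKrullDim (V.1 : Set T)) ⟨U.1, h.mem_open U.1.2 U.2⟩

theorem finrank_residueField_tensor {A : Type u} [CommRing A] (M : Type u) [AddCommGroup M]
    [Module A M] [Module.Flat A M] [Module.Finite A M] (p : Ideal A) [p.IsPrime] :
    Module.finrank p.ResidueField (p.ResidueField ⊗[A] M) =
      Module.rankAtStalk M (⟨p, inferInstance⟩ : PrimeSpectrum A) := by
  have h1 := Module.rankAtStalk_baseChange (R := A) (M := M) (S := p.ResidueField)
    (⟨⊥, inferInstance⟩ : PrimeSpectrum p.ResidueField)
  have h2 := congrFun (Module.rankAtStalk_eq_finrank_of_free (R := p.ResidueField)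
    (M := p.ResidueField ⊗[A] M)) (⟨⊥, inferInstance⟩ : PrimeSpectrum p.ResidueField)
  rw [h2] at h1
  have h3 : PrimeSpectrum.comap (algebraMap A p.ResidueField) ⟨⊥, inferInstance⟩ =
      (⟨p, inferInstance⟩ : PrimeSpectrum A) := by
    ext1
    change Ideal.comap (algebraMap A p.ResidueField) ⊥ = p
    rw [← RingHom.ker_eq_comap_bot]
    exact Ideal.ker_algebraMap_residueField p
  rw [h3] at h1
  exact h1

theorem smooth_iff (k A : Type u) [Field k] [CommRing A] [Algebra k A] [Algebra.FiniteType k A] :
    Algebra.Smooth k A ↔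
      Module.Projective A (KaehlerDifferential k A) ∧
        ∀ (p : Ideal A) [p.IsPrime], p ∈ minimalPrimes A →
          Algebra.IsGeometricallyReduced k (Localization.AtPrime p) := by
  have hfp : Algebra.FinitePresentation k A := Algebra.FinitePresentation.of_finiteType.mp inferInstance
  constructor
  · intro h
    refine ⟨inferInstance, fun p hp hpm => ?_⟩
    exact GenSmooth.isGeometricallyReduced_of_isSmoothAt k A p
      (show (⟨p, hp⟩ : PrimeSpectrum A) ∈ Algebra.smoothLocus k A by
        rw [Algebra.smoothLocus_eq_univ]; trivial)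
  · rintro ⟨hproj, h⟩
    refine ⟨?_, hfp⟩
    rw [← Algebra.smoothLocus_eq_univ_iff]
    refine Set.eq_univ_of_forall fun y => ?_
    obtain ⟨q, hq, hqy⟩ := Ideal.exists_minimalPrimes_le (bot_le (a := y.asIdeal))
    have hqp : q.IsPrime := hq.1.1
    have h1 := (Groth.Agent.S2063.result q).mp (GenSmooth.isSmoothAt_of_isGeometricallyReduced k A q hq (h q hq))
    refine (Groth.Agent.S2063.result y.asIdeal).mpr ?_
    have hspec : (⟨q, hqp⟩ : PrimeSpectrum A) ⤳ y := (PrimeSpectrum.le_iff_specializes _ _).mp hqy
    have e1 := finrank_residueField_tensor (KaehlerDifferential k A) q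
    have e2 := finrank_residueField_tensor (KaehlerDifferential k A) y.asIdeal
    have e3 : Module.rankAtStalk (KaehlerDifferential k A) (⟨q, hqp⟩ : PrimeSpectrum A) =
        Module.rankAtStalk (KaehlerDifferential k A) y :=
      Module.rankAtStalk_eq_of_le_of_finite_of_flat _ hqy
    rw [e2, ← e3, ← e1]
    exact h1.trans (localDim_le_of_specializes hspec)

end K133.ProjSmooth
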