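import Groth.Agent.Ega41.OmegaRank
import Groth.Agent.Ega4fib.H159.SurjDim
import Mathlib.RingTheory.RegularLocalRing.Defs
import Mathlib.RingTheory.Smooth.Field
import Mathlib.RingTheory.KrullDimension.Regular

/-!
# Local rings of characteristic zero with free differentials are regular

* `notMem_minimalPrimes`: in a `ℚ`-algebra an element `x` with `D x` a unit for some derivation `D`
  lies in no minimal prime;
* `isRegularLocalRing_of_free`: a Noetherian local algebra over a field of characteristic zero whose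
  module of differentials is finite free is regular.
-/

set_option autoImplicit false
universe u

open TensorProduct IsLocalRing KaehlerDifferential

namespace K133.CharZeroFree

/-- If `D x` is a unit and `s x ^ n = 0` then `s` is nilpotent. -/
theorem isNilpotent_of_mul_pow {R : Type*} [CommRing R] [Algebra ℚ R] (D : Derivation ℤ R R) (x : R)
    (hx : IsUnit (D x)) (n : ℕ) : ∀ (s : R), s * x ^ n = 0 → IsNilpotent s := by
  induction n with
  | zero => intro s hs; rw [pow_zero, mul_one] at hs; rw [hs]; exact IsNilpotent.zero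
  | succ n ih =>
    intro s hs
    have h1 : D (s * x ^ (n + 1)) = 0 := by rw [hs, map_zero]
    rw [Derivation.leibniz, Derivation.leibniz_pow, smul_eq_mul, smul_eq_mul, nsmul_eq_mul, smul_eq_mul,
      Nat.add_sub_cancel] at h1
    have h2 : (((n + 1 : ℕ) : R) * D x) * (s ^ 2 * x ^ n) = 0 := by
      have : (((n + 1 : ℕ) : R) * D x) * (s ^ 2 * x ^ n) =
          s * (s * (((n + 1 : ℕ) : R) * (x ^ n * D x)) + x ^ (n + 1) * D s) - (s * x ^ (n + 1)) * D s := by ring
      rw [this, h1, hs, mul_zero, zero_mul, sub_zero]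
    have hu : IsUnit ((n + 1 : ℕ) : R) := by
      have h3 : IsUnit ((n + 1 : ℕ) : ℚ) := isUnit_iff_ne_zero.2 (by positivity)
      have h4 := h3.map (algebraMap ℚ R)
      rwa [map_natCast] at h4
    have h5 := ((hu.mul hx).mul_right_eq_zero).1 h2
    exact (IsNilpotent.pow_iff_pos (n := 2) (by norm_num)).1 (ih _ h5)

/-- An element with unit derivative lies in no minimal prime. -/
theorem notMem_minimalPrimes {R : Type*} [CommRing R] [Algebra ℚ R] (D : Derivation ℤ R R) (x : R)
    (hx : IsUnit (D x)) (p : Ideal R) (hp : p ∈ minimalPrimes R) : x ∉ p := by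
  intro hxp
  obtain ⟨y, hy, hxy⟩ := Ideal.iUnion_minimalPrimes.subset (Set.mem_biUnion hp hxp)
  obtain ⟨n, hn⟩ := hxy
  rw [mul_pow, Ideal.mem_bot, mul_comm] at hn
  obtain ⟨m, hm⟩ := isNilpotent_of_mul_pow D x hx n (y ^ n) hn
  exact hy ⟨n * m, by rw [pow_mul, hm]; exact Ideal.zero_mem _⟩

/-- `emb dim R ≤ emb dim (R / x) + 1`. -/
theorem spanFinrank_le {R : Type*} [CommRing R] [IsLocalRing R] [IsNoetherianRing R] (x : R)
    [IsLocalRing (R ⧸ Ideal.span {x})] :
    (maximalIdeal R).spanFinrank ≤ (maximalIdeal (R ⧸ Ideal.span {x})).spanFinrank + 1 := by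
  classical
  obtain ⟨s, hs, hs'⟩ := Submodule.FG.exists_span_finset_card_eq_spanFinrank
    (IsNoetherian.noetherian (maximalIdeal (R ⧸ Ideal.span {x})))
  let g : R ⧸ Ideal.span {x} → R := Function.surjInv Ideal.Quotient.mk_surjective
  have hg : ∀ y, Ideal.Quotient.mk (Ideal.span {x}) (g y) = y := Function.surjInv_eq _
  have hcomap : (maximalIdeal (R ⧸ Ideal.span {x})).comap (Ideal.Quotient.mk (Ideal.span {x})) = maximalIdeal R :=
    ((local_hom_TFAE (Ideal.Quotient.mk (Ideal.span {x}))).out 0 4).1
      (IsLocalHom.of_surjective _ Ideal.Quotient.mk_surjective)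
  have key : maximalIdeal R = Ideal.span (insert x (s.image g) : Finset R) := by
    rw [← hcomap, ← hs']
    change Ideal.comap _ (Ideal.span _) = _
    have h1 : Ideal.span (s : Set (R ⧸ Ideal.span {x})) =
        (Ideal.span ((s.image g : Finset R) : Set R)).map (Ideal.Quotient.mk (Ideal.span {x})) := by
      rw [Ideal.map_span]
      congr 1
      ext y
      simp only [Finset.coe_image, Set.mem_image, exists_exists_and_eq_and, hg, Finset.mem_coe, exists_eq_right]
    rw [h1, Ideal.comap_map_of_surjective _ Ideal.Quotient.mk_surjective, ← RingHom.ker_eq_comap_bot,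
      Ideal.mk_ker, Finset.coe_insert, Ideal.span_insert, sup_comm]
  rw [key]
  refine (Submodule.spanFinrank_span_le_ncard_of_finite (Finset.finite_toSet _)).trans ?_
  rw [Set.ncard_coe_finset]
  refine (Finset.card_insert_le _ _).trans ?_
  gcongr
  rw [← hs]
  exact Finset.card_image_le

section Quot

variable {k R : Type u} [Field k] [CommRing R] [Algebra k R] (x : R)

/-- If some functional takes a unit value on `dx`, the differentials of `R / x` are projective. -/
theorem projective_quot [Module.Projective R (Ω[R⁄k])] (φ : Ω[R⁄k] →ₗ[R] R) (hφ : IsUnit (φ (D k R x))) :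
    Module.Projective (R ⧸ Ideal.span {x}) (Ω[(R ⧸ Ideal.span {x})⁄k]) := by
  let R' := R ⧸ Ideal.span {x}
  let N := R' ⊗[R] Ω[R⁄k]
  let π : N →ₗ[R'] Ω[R'⁄k] := mapBaseChange k R R'
  have hsurj : Function.Surjective (algebraMap R R') := Ideal.Quotient.mk_surjective
  have hπ : Function.Surjective π := KaehlerDifferential.mapBaseChange_surjective k R R' hsurj
  obtain ⟨u, hu⟩ := hφ
  let ψ : N →ₗ[R'] R' := (AlgebraTensorModule.rid R R' R').toLinearMap ∘ₗ φ.baseChange R'
  let v : N := 1 ⊗ₜ D k R x
  have hv : ψ v = algebraMap R R' u := by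
    rw [hu, Algebra.algebraMap_eq_smul_one]
    change AlgebraTensorModule.rid R R' R' ((φ.baseChange R') (1 ⊗ₜ D k R x)) = _
    rw [LinearMap.baseChange_tmul, AlgebraTensorModule.rid_tmul]
  let T : N →ₗ[R'] N := LinearMap.id - (LinearMap.toSpanSingleton R' N v) ∘ₗ (algebraMap R R' ((u⁻¹ : Rˣ) : R) • ψ)
  have hT : ∀ n, T n = n - (algebraMap R R' ((u⁻¹ : Rˣ) : R) * ψ n) • v := fun n => rfl
  have hTv : T v = 0 := by
    rw [hT, hv, ← map_mul, Units.inv_mul, map_one, one_smul, sub_self]
  have hker : LinearMap.ker π ≤ LinearMap.ker T := by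
    intro n hn
    have h1 := KaehlerDifferential.range_kerCotangentToTensor k R R' hsurj
    have h2 : n ∈ LinearMap.range (kerCotangentToTensor k R R') := by
      rw [h1]; exact hn
    obtain ⟨y, rfl⟩ := h2
    obtain ⟨⟨y, hy⟩, rfl⟩ := Ideal.toCotangent_surjective _ y
    have hy' : y ∈ Ideal.span {x} := by
      rw [RingHom.mem_ker] at hy
      exact Ideal.Quotient.eq_zero_iff_mem.1 hy
    obtain ⟨c, rfl⟩ := Ideal.mem_span_singleton'.1 hy'
    rw [kerCotangentToTensor_toCotangent, LinearMap.mem_ker]
    have h3 : (1 : R') ⊗ₜ[R] D k R (c * x) = algebraMap R R' c • v := by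
      have hx0 : algebraMap R R' x = 0 := Ideal.Quotient.eq_zero_iff_mem.2 (Ideal.mem_span_singleton_self x)
      rw [Derivation.leibniz, TensorProduct.tmul_add, TensorProduct.tmul_smul, TensorProduct.tmul_smul,
        ← algebraMap_smul R' x, hx0, zero_smul, add_zero, ← algebraMap_smul R' c]
    rw [h3, map_smul, hTv, smul_zero]
  let s : Ω[R'⁄k] →ₗ[R'] N := (LinearMap.ker π).liftQ T hker ∘ₗ (π.quotKerEquivOfSurjective hπ).symm.toLinearMap
  have hs : ∀ n, s (π n) = T n := fun n => by
    have : (π.quotKerEquivOfSurjective hπ).symm (π n) = (LinearMap.ker π).mkQ n := by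
      rw [LinearEquiv.symm_apply_eq]; rfl
    simp only [s, LinearMap.comp_apply, LinearEquiv.coe_coe, this]
    rfl
  have hπv : π v = 0 := by
    change mapBaseChange k R R' (1 ⊗ₜ D k R x) = 0
    rw [mapBaseChange_tmul, map_D]
    have hx0 : algebraMap R R' x = 0 := Ideal.Quotient.eq_zero_iff_mem.2 (Ideal.mem_span_singleton_self x)
    rw [hx0, map_zero, smul_zero]
  refine Module.Projective.of_split s π ?_
  refine LinearMap.ext fun n => ?_
  obtain ⟨n, rfl⟩ := hπ n
  rw [LinearMap.comp_apply, hs, hT, map_sub, map_smul, hπv, smul_zero, sub_zero]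
  rfl

end Quot

section Main

variable (k : Type u) [Field k] [CharZero k]

/-- The functional and the element. -/
theorem exists_functional {R : Type u} [CommRing R] [IsLocalRing R] [IsNoetherianRing R] [Algebra k R]
    [Algebra.EssFiniteType k (ResidueField R)] [Module.Finite R (Ω[R⁄k])] [Module.Free R (Ω[R⁄k])] (x : R) (hx : x ∈ maximalIdeal R)
    (hx2 : x ∉ maximalIdeal R ^ 2) : ∃ φ : Ω[R⁄k] →ₗ[R] R, IsUnit (φ (D k R x)) := by
  let K := ResidueField R
  have hsurj : Function.Surjective (algebraMap R K) := residue_surjective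
  have hxker : x ∈ RingHom.ker (algebraMap R K) := (residue_eq_zero_iff x).2 hx
  have h1 := Groth.Agent.Ega41.OmegaRank.kerCotangentToTensor_injective_of_formallySmooth k hsurj
  have h2 : (1 : K) ⊗ₜ[R] D k R x ≠ 0 := by
    intro h0
    have h3 : kerCotangentToTensor k R K (Ideal.toCotangent _ ⟨x, hxker⟩) = 0 := h0
    have h4 := (injective_iff_map_eq_zero _).1 h1 _ h3
    rw [Ideal.toCotangent_eq_zero] at h4
    replace h4 : x ∈ RingHom.ker (algebraMap R K) ^ 2 := h4
    rw [show RingHom.ker (algebraMap R K) = maximalIdeal R from ker_residue] at h4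
    exact hx2 h4
  let b := Module.Free.chooseBasis R (Ω[R⁄k])
  by_contra hcon
  push Not at hcon
  apply h2
  have h5 : D k R x = ∑ i, b.repr (D k R x) i • b i := (b.sum_repr _).symm
  rw [h5, TensorProduct.tmul_sum]
  refine Finset.sum_eq_zero fun i _ => ?_
  have h6 : b.repr (D k R x) i ∈ maximalIdeal R := (mem_maximalIdeal _).2 (hcon (b.coord i))
  rw [← TensorProduct.smul_tmul, ← Algebra.algebraMap_eq_smul_one,
    show algebraMap R K (b.repr (D k R x) i) = 0 from (residue_eq_zero_iff _).2 h6, TensorProduct.zero_tmul]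

theorem main (d : ℕ) : ∀ (R : Type u) [CommRing R] [IsLocalRing R] [IsNoetherianRing R] [Algebra k R]
    [Algebra.EssFiniteType k (ResidueField R)] [Module.Finite R (Ω[R⁄k])] [Module.Free R (Ω[R⁄k])],
    ringKrullDim R < d → IsRegularLocalRing R := by
  induction d with
  | zero =>
    intro R _ _ _ _ _ _ _ hd
    exact absurd (ringKrullDim_nonneg_of_nontrivial (R := R)) (not_le.2 hd)
  | succ d ih =>
    intro R _ _ _ _ _ _ _ hd
    by_cases hm : maximalIdeal R ≤ maximalIdeal R ^ 2
    · -- the maximal ideal is zero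
      have h0 : maximalIdeal R = ⊥ := by
        refine Submodule.eq_bot_of_le_smul_of_le_jacobson_bot (maximalIdeal R) _
          (IsNoetherian.noetherian _) ?_ (maximalIdeal_le_jacobson _)
        rwa [smul_eq_mul, ← pow_two]
      refine IsRegularLocalRing.of_spanFinrank_maximalIdeal_le R ?_
      rw [h0, Submodule.spanFinrank_bot]
      exact ringKrullDim_nonneg_of_nontrivial
    · obtain ⟨x, hx, hx2⟩ := Set.not_subset.1 hm
      obtain ⟨φ, hφ⟩ := exists_functional k x hx hx2
      let _ : Algebra ℚ R := ((algebraMap k R).comp (algebraMap ℚ k)).toAlgebra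
      let D : Derivation ℤ R R := (φ.compDer (KaehlerDifferential.D k R)).restrictScalars ℤ
      have h1 := Groth.Agent.Ega4fib.H159.SurjDim.ringKrullDim_quotient_succ_le
        (fun p hp => notMem_minimalPrimes D x hφ p hp)
      have : Nontrivial (R ⧸ Ideal.span {x}) := Ideal.Quotient.nontrivial_iff.2
        (fun h => (maximalIdeal.isMaximal R).ne_top
          (top_le_iff.1 (h ▸ (Ideal.span_singleton_le_iff_mem _).2 hx)))
      have : IsLocalRing (R ⧸ Ideal.span {x}) := .of_surjective' _ Ideal.Quotient.mk_surjective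
      have hlocal : IsLocalHom (algebraMap R (R ⧸ Ideal.span {x})) :=
        IsLocalHom.of_surjective _ Ideal.Quotient.mk_surjective
      have : Algebra.EssFiniteType k (ResidueField (R ⧸ Ideal.span {x})) := by
        refine Algebra.EssFiniteType.of_surjective (S := ResidueField R)
          { ResidueField.map (algebraMap R (R ⧸ Ideal.span {x})) with commutes' := fun r => ?_ } ?_
        · change ResidueField.map (algebraMap R (R ⧸ Ideal.span {x})) (algebraMap k (ResidueField R) r) = _
          rw [IsScalarTower.algebraMap_apply k R (ResidueField R)]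
          change ResidueField.map (algebraMap R (R ⧸ Ideal.span {x})) (residue R _) = _
          rw [ResidueField.map_residue]
          rfl
        · intro y
          obtain ⟨y, rfl⟩ := residue_surjective y
          obtain ⟨y, rfl⟩ := Ideal.Quotient.mk_surjective y
          exact ⟨residue R y, ResidueField.map_residue _ _⟩
      have : Module.Finite (R ⧸ Ideal.span {x}) (Ω[(R ⧸ Ideal.span {x})⁄k]) :=
        Module.Finite.of_surjective (mapBaseChange k R (R ⧸ Ideal.span {x}))
          (KaehlerDifferential.mapBaseChange_surjective k R _ Ideal.Quotient.mk_surjective)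
      have : Module.Projective (R ⧸ Ideal.span {x}) (Ω[(R ⧸ Ideal.span {x})⁄k]) := projective_quot x φ hφ
      have : Module.Free (R ⧸ Ideal.span {x}) (Ω[(R ⧸ Ideal.span {x})⁄k]) :=
        Module.free_of_flat_of_isLocalRing
      have h2 : ringKrullDim (R ⧸ Ideal.span {x}) < d := by
        by_contra hcon
        have h4 : ((d : ℕ) : WithBot ℕ∞) + 1 ≤ ringKrullDim (R ⧸ Ideal.span {x}) + 1 := by
          gcongr
          exact not_lt.1 hcon
        exact absurd (h4.trans h1) (not_le.2 (by exact_mod_cast hd))
      have h3 := ih (R ⧸ Ideal.span {x}) h2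
      refine IsRegularLocalRing.of_spanFinrank_maximalIdeal_le R ?_
      refine le_trans ?_ h1
      rw [← h3.spanFinrank_maximalIdeal]
      exact_mod_cast spanFinrank_le x

/-- A Noetherian local algebra over a field of characteristic zero whose module of differentials is
finite free is regular. -/
theorem isRegularLocalRing_of_free (R : Type u) [CommRing R] [IsLocalRing R] [IsNoetherianRing R] [Algebra k R]
    [Algebra.EssFiniteType k (ResidueField R)] [Module.Finite R (Ω[R⁄k])] [Module.Free R (Ω[R⁄k])] :
    IsRegularLocalRing R := by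
  have h := ringKrullDim_lt_top (R := R)
  obtain ⟨n, hn⟩ : ∃ n : ℕ, ringKrullDim R < n := by
    have h0 : ringKrullDim R ≠ ⊥ := ringKrullDim_ne_bot
    obtain ⟨m, hm⟩ := WithBot.ne_bot_iff_exists.1 h0
    rw [← hm] at h ⊢
    have h1 : m < ⊤ := WithBot.coe_lt_coe.1 h
    obtain ⟨n, rfl⟩ := ENat.ne_top_iff_exists.1 h1.ne
    exact ⟨n + 1, by exact_mod_cast Nat.lt_succ_self n⟩
  exact main k n R hn

end Main

end K133.CharZeroFree
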