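import Groth.Agent.UnramB.UnramNormal
import Mathlib.RingTheory.Unramified.LocalRing
import Mathlib.RingTheory.MvPolynomial.Ideal
import Mathlib.RingTheory.Etale.Locus
import Mathlib.RingTheory.KrullDimension.Field
import Mathlib.RingTheory.KrullDimension.Polynomial

/-!
# Étale over affine space at a point with finite separable residue field
-/

set_option autoImplicit false
universe u

open MvPolynomial

namespace K133.EtPoint

theorem comap_eq_idealOfVars {k : Type u} [Field k] {n : ℕ} {q : Ideal (MvPolynomial (Fin n) k)} [q.IsPrime]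
    (h : ∀ i, X i ∈ q) : q = Ideal.span (Set.range (X : Fin n → MvPolynomial (Fin n) k)) := by
  have hle : Ideal.span (Set.range (X : Fin n → MvPolynomial (Fin n) k)) ≤ q := by
    rw [Ideal.span_le]
    rintro _ ⟨i, rfl⟩
    exact h i
  refine le_antisymm (fun f hf => ?_) hle
  have h1 : f - C (constantCoeff f) ∈ Ideal.span (Set.range (X : Fin n → MvPolynomial (Fin n) k)) := by
    have h2 := (mem_pow_idealOfVars_iff' (σ := Fin n) (R := k) 1 (f - C (constantCoeff f))).mpr (by
      intro x hx
      have hx0 : x = 0 := by
        rw [Nat.lt_one_iff] at hx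
        exact (Finsupp.degree_eq_zero_iff x).mp hx
      subst hx0
      rw [coeff_sub, coeff_C, if_pos rfl]
      simp [constantCoeff_eq])
    rwa [pow_one] at h2
  have h3 : C (constantCoeff f) ∈ q := by
    have := q.sub_mem hf (hle h1)
    rwa [sub_sub_cancel] at this
  have h4 : constantCoeff f = 0 := by
    by_contra hne
    exact (inferInstance : q.IsPrime).ne_top
      (Ideal.eq_top_of_isUnit_mem _ h3 ((isUnit_iff_ne_zero.mpr hne).map C))
  rw [h4, map_zero, sub_zero] at h1
  exact h1

theorem main (k A : Type u) [Field k] [CommRing A] [Algebra k A]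
    [Algebra.FiniteType k A] (n : ℕ) [Algebra (MvPolynomial (Fin n) k) A]
    [IsScalarTower k (MvPolynomial (Fin n) k) A] (p : Ideal A) [p.IsPrime]
    (hn : FlatMor.localDim (PrimeSpectrum A) ⟨p, inferInstance⟩ = (n : WithBot ℕ∞))
    [Algebra.IsSeparable k p.ResidueField]
    (hg : ∀ i : Fin n, algebraMap (MvPolynomial (Fin n) k) A (MvPolynomial.X i) ∈ p) :
    Algebra.IsEtaleAt (MvPolynomial (Fin n) k) p ↔
      Ideal.span (Set.range fun i : Fin n =>
        algebraMap A (Localization.AtPrime p) (algebraMap (MvPolynomial (Fin n) k) A (MvPolynomial.X i))) =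
        IsLocalRing.maximalIdeal (Localization.AtPrime p) := by
  let P := MvPolynomial (Fin n) k
  let q := p.comap (algebraMap P A)
  have : p.LiesOver q := ⟨rfl⟩
  have hq : q = Ideal.span (Set.range (X : Fin n → MvPolynomial (Fin n) k)) :=
    comap_eq_idealOfVars (q := q) hg
  have hmap : q.map (algebraMap P (Localization.AtPrime p)) =
      Ideal.span (Set.range fun i : Fin n =>
        algebraMap A (Localization.AtPrime p) (algebraMap P A (MvPolynomial.X i))) := by
    rw [hq, Ideal.map_span]
    congr 1
    ext z
    constructor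
    · rintro ⟨_, ⟨i, rfl⟩, rfl⟩
      exact ⟨i, (IsScalarTower.algebraMap_apply P A (Localization.AtPrime p) _).symm⟩
    · rintro ⟨i, rfl⟩
      exact ⟨_, ⟨i, rfl⟩, IsScalarTower.algebraMap_apply P A (Localization.AtPrime p) _⟩
  have : Algebra.FiniteType P A := Algebra.FiniteType.of_restrictScalars_finiteType k P A
  let _ := Localization.AtPrime.algebraOfLiesOver q p
  have hsep : Algebra.IsSeparable q.ResidueField p.ResidueField := by
    have : IsScalarTower k q.ResidueField p.ResidueField := IsScalarTower.of_algebraMap_eq (fun x => by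
      rw [IsScalarTower.algebraMap_apply k P q.ResidueField,
        ← IsScalarTower.algebraMap_apply P q.ResidueField p.ResidueField,
        IsScalarTower.algebraMap_apply P A p.ResidueField,
        ← IsScalarTower.algebraMap_apply k P A, ← IsScalarTower.algebraMap_apply k A])
    exact Algebra.isSeparable_tower_top_of_isSeparable k q.ResidueField p.ResidueField
  have hun := Algebra.isUnramifiedAt_iff_map_eq P q p
  rw [← hmap]
  constructor
  · intro h
    have hE : Algebra.FormallyEtale P (Localization.AtPrime p) := h
    have : Algebra.IsUnramifiedAt P p :=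
      (inferInstance : Algebra.FormallyUnramified P (Localization.AtPrime p))
    exact (hun.mp this).2
  · intro h
    have : Algebra.IsUnramifiedAt P p := hun.mpr ⟨hsep, h⟩
    have hdim : ringKrullDim (MvPolynomial (Fin n) k) ≤ (n : WithBot ℕ∞) := by
      rw [MvPolynomial.ringKrullDim_of_isNoetherianRing, ringKrullDim_eq_zero_of_field k]
      simp
    exact Groth.Agent.UnramB.UnramNormal.isEtaleAt_of_unramified (MvPolynomial (Fin n) k) A p n
      hdim hn.ge

end K133.EtPoint
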