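import Mathlib.AlgebraicGeometry.Fiber

/-!
# The fibre of `f : X ⟶ Y` over `y` is a base change of the fibre map `X_s ⟶ Y_s`, `s = g y`
-/

set_option autoImplicit false
universe u

open CategoryTheory CategoryTheory.Limits AlgebraicGeometry TopologicalSpace

namespace K133.FibreFibre

variable {X Y S : Scheme.{u}}

/-- `Spec κ(y) ⟶ Y_s`, `s = g y`. -/
noncomputable def toFiber (g : Y ⟶ S) (y : Y) : Spec (Y.residueField y) ⟶ g.fiber (g y) :=
  pullback.lift (Y.fromSpecResidueField y) (Spec.map (g.residueFieldMap y)) (by simp)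

theorem toFiber_fiberι (g : Y ⟶ S) (y : Y) : toFiber g y ≫ g.fiberι (g y) = Y.fromSpecResidueField y :=
  pullback.lift_fst _ _ _

theorem toFiber_apply (g : Y ⟶ S) (y : Y) (t : Spec (Y.residueField y)) :
    toFiber g y t = g.asFiber y := by
  apply (g.fiberι (g y)).isEmbedding.injective
  rw [← Scheme.Hom.comp_apply, toFiber_fiberι, Scheme.Hom.fiberι_asFiber,
    Scheme.fromSpecResidueField_apply]

/-- The fibre of `f : X ⟶ Y` over `y` is a base change of the fibre map `X_s ⟶ Y_s`. -/
theorem isPullback (f : X ⟶ Y) (g : Y ⟶ S) (y : Y) :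
    ∃ t : f.fiber y ⟶ pullback f (g.fiberι (g y)),
      IsPullback t (f.fiberToSpecResidueField y) (pullback.snd f (g.fiberι (g y))) (toFiber g y) ∧
        t ≫ pullback.fst _ _ = f.fiberι y := by
  have w : f.fiberι y ≫ f = (f.fiberToSpecResidueField y ≫ toFiber g y) ≫ g.fiberι (g y) := by
    rw [Category.assoc, toFiber_fiberι]
    exact pullback.condition
  refine ⟨pullback.lift (f.fiberι y) (f.fiberToSpecResidueField y ≫ toFiber g y) w, ?_,
    pullback.lift_fst _ _ _⟩
  refine IsPullback.of_right ?_ (pullback.lift_snd _ _ _)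
    (IsPullback.of_hasPullback f (g.fiberι (g y)))
  rw [pullback.lift_fst, toFiber_fiberι]
  exact IsPullback.of_hasPullback f (Y.fromSpecResidueField y)

end K133.FibreFibre
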