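import Groth.Agent.S1350
import Groth.Agent.UnramB.StalkNhd
import Groth.Agent.Unram17.K133.Rigid
import Mathlib.RingTheory.Kaehler.Basic
import Mathlib.RingTheory.Unramified.Basic

/-!
# Smoothness and unramifiedness at a point by lifting from local rings (no Noetherian hypothesis)
-/

set_option autoImplicit false
universe u

open AlgebraicGeometry CategoryTheory Limits
open Groth.Agent.S1350

namespace K133.LocalLift

theorem mem_smoothLocus_iff {X S : Scheme.{u}} (f : X ⟶ S) [LocallyOfFinitePresentation f] (x : X) :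
    x ∈ f.smoothLocus ↔ ∀ (B B' : Type u) [CommRing B] [CommRing B'] [IsLocalRing B] [IsLocalRing B'] (φ : B' →+* B),
      Function.Surjective φ → RingHom.ker φ ^ 2 = ⊥ →
      ∀ (α : Spec (CommRingCat.of B) ⟶ X) (β : Spec (CommRingCat.of B') ⟶ S),
        α (IsLocalRing.closedPoint B) = x → Spec.map (CommRingCat.ofHom φ) ≫ β = α ≫ f →
        ∃ γ : Spec (CommRingCat.of B') ⟶ X, Spec.map (CommRingCat.ofHom φ) ≫ γ = α ∧ γ ≫ f = β := by
  rw [Scheme.Hom.mem_smoothLocus]
  constructor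
  · intro hsm B B' _ _ _ _ φ hφ hk α β hα w
    obtain ⟨a, -, ha⟩ := exists_stalk_hom α x hα
    have hβ : β (IsLocalRing.closedPoint B') = f x := by
      rw [← closedPoint_eq φ hφ]
      have h1 := comp_apply_eq _ _ _ w (IsLocalRing.closedPoint B)
      have h2 := comp_apply_eq α f _ rfl (IsLocalRing.closedPoint B)
      rw [hα] at h2
      exact h1.trans h2.symm
    obtain ⟨b, -, hb⟩ := exists_stalk_hom β (f x) hβ
    have hab : b ≫ CommRingCat.ofHom φ = f.stalkMap x ≫ a := by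
      apply Spec.map_injective
      rw [← cancel_mono (S.fromSpecStalk (f x)), Spec.map_comp, Spec.map_comp, Category.assoc,
        Category.assoc, hb, w, Scheme.SpecMap_stalkMap_fromSpecStalk, ← ha, Category.assoc]
    let A := S.presheaf.stalk (f x)
    let C := X.presheaf.stalk x
    let _ : Algebra A C := (f.stalkMap x).hom.toAlgebra
    have : Algebra.FormallySmooth A C := hsm
    let _ : Algebra A B' := b.hom.toAlgebra
    let _ : Algebra A B := (φ.comp b.hom).toAlgebra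
    let φ' : B' →ₐ[A] B := { φ with commutes' := fun r => rfl }
    let a' : C →ₐ[A] B := { a.hom with commutes' := fun r => (congr($(hab).hom r)).symm }
    let l : C →ₐ[A] B' := Algebra.FormallySmooth.liftOfSurjective a' φ' hφ ⟨2, hk⟩
    have hl : φ'.comp l = a' := Algebra.FormallySmooth.comp_liftOfSurjective a' φ' hφ ⟨2, hk⟩
    refine ⟨Spec.map (CommRingCat.ofHom l.toRingHom) ≫ X.fromSpecStalk x, ?_, ?_⟩
    · rw [← Spec.map_comp_assoc, ← ha]
      congr 2
      ext r
      exact congr($hl r)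
    · rw [Category.assoc, ← Scheme.SpecMap_stalkMap_fromSpecStalk, ← Spec.map_comp_assoc, ← hb]
      congr 2
      ext r
      exact l.commutes r
  · intro H
    let A := S.presheaf.stalk (f x)
    let C := X.presheaf.stalk x
    let _ : Algebra A C := (f.stalkMap x).hom.toAlgebra
    change Algebra.FormallySmooth A C
    apply formallySmooth_of_local_lifting
    intro B' _ _ _ φ hφ hk
    obtain ⟨γ, hγ₁, hγ₂⟩ := H C B' φ.toRingHom hφ hk (X.fromSpecStalk x)
      (Spec.map (CommRingCat.ofHom (algebraMap A B')) ≫ S.fromSpecStalk (f x))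
      Scheme.fromSpecStalk_closedPoint (by
        rw [← Spec.map_comp_assoc, ← Scheme.SpecMap_stalkMap_fromSpecStalk]
        congr 2
        ext r
        exact φ.commutes r)
    have hγ : γ (IsLocalRing.closedPoint B') = x := by
      rw [← closedPoint_eq φ.toRingHom hφ]
      have h1 := comp_apply_eq _ _ _ hγ₁ (IsLocalRing.closedPoint C)
      exact h1.trans Scheme.fromSpecStalk_closedPoint
    obtain ⟨g, -, hg⟩ := exists_stalk_hom γ x hγ
    have h1 : g ≫ CommRingCat.ofHom φ.toRingHom = 𝟙 _ := by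
      apply Spec.map_injective
      rw [← cancel_mono (X.fromSpecStalk x), Spec.map_comp, Category.assoc, hg, hγ₁]
      rw [Spec.map_id]
      exact (Category.id_comp (X.fromSpecStalk x)).symm
    have h2 : f.stalkMap x ≫ g = CommRingCat.ofHom (algebraMap A B') := by
      apply Spec.map_injective
      rw [← cancel_mono (S.fromSpecStalk (f x)), Spec.map_comp, Category.assoc,
        Scheme.SpecMap_stalkMap_fromSpecStalk, reassoc_of% hg, hγ₂]
    refine ⟨{ g.hom with commutes' := fun r => congr($(h2).hom r) }, ?_⟩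
    ext r
    exact congr($(h1).hom r)

theorem isLocalRing_of_ker_sq {B' B : Type u} [CommRing B'] [CommRing B] [IsLocalRing B]
    (φ : B' →+* B) (hφ : Function.Surjective φ) (hk : RingHom.ker φ ^ 2 = ⊥) : IsLocalRing B' := by
  have hnt : Nontrivial B' := hφ.nontrivial
  have hu : ∀ a : B', IsUnit (φ a) → IsUnit a := by
    intro a ha
    obtain ⟨b, hb⟩ := hφ (↑(ha.unit⁻¹) : B)
    have h1 : φ (1 - a * b) = 0 := by
      rw [map_sub, map_mul, map_one, hb, IsUnit.mul_val_inv, sub_self]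
    have h2 : (1 - a * b) ^ 2 = 0 := by
      have h3 : (1 - a * b) ^ 2 ∈ RingHom.ker φ ^ 2 := Ideal.pow_mem_pow h1 2
      rw [hk] at h3
      exact h3
    have h4 : IsUnit (a * b) := by
      have h5 : a * b = 1 - (1 - a * b) := by ring
      rw [h5]
      exact IsNilpotent.isUnit_one_sub ⟨2, h2⟩
    exact isUnit_of_mul_isUnit_left h4
  refine IsLocalRing.of_isUnit_or_isUnit_one_sub_self fun a => ?_
  rcases IsLocalRing.isUnit_or_isUnit_one_sub_self (φ a) with h | h
  · exact Or.inl (hu a h)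
  · refine Or.inr (hu _ ?_)
    rwa [map_sub, map_one]

open TensorProduct in
theorem formallyUnramified_of_local_lifting {A C : Type u} [CommRing A] [CommRing C] [IsLocalRing C]
    [Algebra A C]
    (H : ∀ (B' : Type u) [CommRing B'] [IsLocalRing B'] [Algebra A B'] (φ : B' →ₐ[A] C),
      Function.Surjective φ → RingHom.ker φ.toRingHom ^ 2 = ⊥ →
        ∀ g₁ g₂ : C →ₐ[A] B', φ.comp g₁ = AlgHom.id A C → φ.comp g₂ = AlgHom.id A C → g₁ = g₂) :
    Algebra.FormallyUnramified A C := by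
  let m : C ⊗[A] C →ₐ[A] C := Algebra.TensorProduct.lmul' A
  let J := RingHom.ker m.toRingHom
  have hm : Function.Surjective m := fun c => ⟨c ⊗ₜ 1, by simp [m]⟩
  have hs : Function.Surjective m.kerSquareLift :=
    Ideal.Quotient.lift_surjective_of_surjective _ _ hm
  have sqz : RingHom.ker m.kerSquareLift.toRingHom ^ 2 = ⊥ := by
    rw [AlgHom.ker_kerSquareLift, Ideal.cotangentIdeal_square]
  have hl : IsLocalRing ((C ⊗[A] C) ⧸ J ^ 2) := isLocalRing_of_ker_sq m.kerSquareLift.toRingHom hs sqz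
  let g₁ : C →ₐ[A] (C ⊗[A] C) ⧸ J ^ 2 := (Ideal.Quotient.mkₐ A (J ^ 2)).comp Algebra.TensorProduct.includeLeft
  let g₂ : C →ₐ[A] (C ⊗[A] C) ⧸ J ^ 2 := (Ideal.Quotient.mkₐ A (J ^ 2)).comp Algebra.TensorProduct.includeRight
  have h := H ((C ⊗[A] C) ⧸ J ^ 2) m.kerSquareLift hs sqz g₁ g₂
    (by
      ext c
      change m (c ⊗ₜ 1) = c
      simp [m])
    (by
      ext c
      change m (1 ⊗ₜ c) = c
      simp [m])
  have hle : KaehlerDifferential.ideal A C ≤ KaehlerDifferential.ideal A C ^ 2 := by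
    rw [← KaehlerDifferential.span_range_eq_ideal, Ideal.span_le, KaehlerDifferential.span_range_eq_ideal]
    rintro _ ⟨c, rfl⟩
    have h1 : g₂ c = g₁ c := by rw [h]
    have h2 : (1 : C) ⊗ₜ[A] c - c ⊗ₜ[A] (1 : C) ∈ J ^ 2 := (Ideal.Quotient.mk_eq_mk_iff_sub_mem _ _).mp h1
    exact h2
  have hid : IsIdempotentElem (KaehlerDifferential.ideal A C) := by
    refine le_antisymm Ideal.mul_le_left ?_
    rw [← pow_two]
    exact hle
  exact ⟨(Ideal.cotangent_subsingleton_iff _).mpr hid⟩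

theorem formallyUnramified_stalk_of_lifts {X S : Scheme.{u}} (f : X ⟶ S) (x : X)
    (H : ∀ (B B' : Type u) [CommRing B] [CommRing B'] [IsLocalRing B] [IsLocalRing B'] (φ : B' →+* B),
      Function.Surjective φ → RingHom.ker φ ^ 2 = ⊥ →
      ∀ (α : Spec (CommRingCat.of B) ⟶ X) (β : Spec (CommRingCat.of B') ⟶ S),
        α (IsLocalRing.closedPoint B) = x → Spec.map (CommRingCat.ofHom φ) ≫ β = α ≫ f →
        ∀ γ₁ γ₂ : Spec (CommRingCat.of B') ⟶ X,
          Spec.map (CommRingCat.ofHom φ) ≫ γ₁ = α → γ₁ ≫ f = β →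
          Spec.map (CommRingCat.ofHom φ) ≫ γ₂ = α → γ₂ ≫ f = β → γ₁ = γ₂) :
    (f.stalkMap x).hom.FormallyUnramified := by
  let A := S.presheaf.stalk (f x)
  let C := X.presheaf.stalk x
  let _ : Algebra A C := (f.stalkMap x).hom.toAlgebra
  change Algebra.FormallyUnramified A C
  apply formallyUnramified_of_local_lifting
  intro B' _ _ _ φ hφ hk g₁ g₂ h₁ h₂
  have key1 : ∀ g : C →ₐ[A] B', φ.comp g = AlgHom.id A C →
      Spec.map (CommRingCat.ofHom φ.toRingHom) ≫ Spec.map (CommRingCat.ofHom g.toRingHom) ≫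
        X.fromSpecStalk x = X.fromSpecStalk x := by
    intro g hg
    rw [← Spec.map_comp_assoc]
    have : CommRingCat.ofHom g.toRingHom ≫ CommRingCat.ofHom φ.toRingHom = 𝟙 C := by
      ext c
      exact congr($hg c)
    rw [this]
    exact (congrArg (· ≫ X.fromSpecStalk x) (Spec.map_id C)).trans (Category.id_comp _)
  have key2 : ∀ g : C →ₐ[A] B',
      (Spec.map (CommRingCat.ofHom g.toRingHom) ≫ X.fromSpecStalk x) ≫ f =
        Spec.map (CommRingCat.ofHom (algebraMap A B')) ≫ S.fromSpecStalk (f x) := by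
    intro g
    rw [Category.assoc, ← Scheme.SpecMap_stalkMap_fromSpecStalk, ← Spec.map_comp_assoc]
    congr 2
    ext r
    exact g.commutes r
  have h3 := H C B' φ.toRingHom hφ hk (X.fromSpecStalk x)
      (Spec.map (CommRingCat.ofHom (algebraMap A B')) ≫ S.fromSpecStalk (f x))
      Scheme.fromSpecStalk_closedPoint (by
        rw [← Spec.map_comp_assoc, ← Scheme.SpecMap_stalkMap_fromSpecStalk]
        congr 2
        ext r
        exact φ.commutes r)
      (Spec.map (CommRingCat.ofHom g₁.toRingHom) ≫ X.fromSpecStalk x)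
      (Spec.map (CommRingCat.ofHom g₂.toRingHom) ≫ X.fromSpecStalk x)
      (key1 g₁ h₁) (key2 g₁) (key1 g₂ h₂) (key2 g₂)
  rw [cancel_mono] at h3
  have h4 := Spec.map_injective h3
  ext c
  exact congr($(h4).hom c)

/-- unique lifting at an unramified point -/
theorem eq_of_lifts {X S : Scheme.{u}} (f : X ⟶ S) [LocallyOfFiniteType f] (x : X)
    (hx : ∃ U : X.Opens, x ∈ U ∧ FormallyUnramified (U.ι ≫ f)) (B B' : Type u) [CommRing B]
    [CommRing B'] [IsLocalRing B] [IsLocalRing B'] (φ : B' →+* B) (hφ : Function.Surjective φ)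
    (α : Spec (CommRingCat.of B) ⟶ X) (hα : α (IsLocalRing.closedPoint B) = x)
    (γ₁ γ₂ : Spec (CommRingCat.of B') ⟶ X) (h₁ : Spec.map (CommRingCat.ofHom φ) ≫ γ₁ = α)
    (h₂ : Spec.map (CommRingCat.ofHom φ) ≫ γ₂ = α) (h : γ₂ ≫ f = γ₁ ≫ f) : γ₁ = γ₂ := by
  obtain ⟨U, hxU, hU⟩ := hx
  have hc : ∀ γ : Spec (CommRingCat.of B') ⟶ X, Spec.map (CommRingCat.ofHom φ) ≫ γ = α →
      γ (IsLocalRing.closedPoint B') = x := by
    intro γ hγ
    rw [← closedPoint_eq φ hφ]
    exact (comp_apply_eq _ _ _ hγ (IsLocalRing.closedPoint B)).trans hα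
  have hfac : ∀ γ : Spec (CommRingCat.of B') ⟶ X, Spec.map (CommRingCat.ofHom φ) ≫ γ = α →
      Set.range γ ⊆ Set.range U.ι := by
    intro γ hγ
    rw [Scheme.Opens.range_ι]
    rintro _ ⟨t, rfl⟩
    have h1 : γ t ⤳ γ (IsLocalRing.closedPoint B') :=
      (IsLocalRing.specializes_closedPoint t).map γ.continuous
    rw [hc γ hγ] at h1
    exact h1.mem_open U.2 hxU
  let δ₁ := IsOpenImmersion.lift U.ι γ₁ (hfac γ₁ h₁)
  let δ₂ := IsOpenImmersion.lift U.ι γ₂ (hfac γ₂ h₂)
  have e1 : δ₁ ≫ U.ι = γ₁ := IsOpenImmersion.lift_fac _ _ _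
  have e2 : δ₂ ≫ U.ι = γ₂ := IsOpenImmersion.lift_fac _ _ _
  have hw : δ₂ ≫ (U.ι ≫ f) = δ₁ ≫ (U.ι ≫ f) := by
    rw [reassoc_of% e1, reassoc_of% e2, h]
  have h3 : Spec.map (CommRingCat.ofHom φ) ≫ δ₁ = Spec.map (CommRingCat.ofHom φ) ≫ δ₂ := by
    rw [← cancel_mono U.ι, Category.assoc, Category.assoc, e1, e2, h₁, h₂]
  have h4 := K133.Rigid.range_subset (U.ι ≫ f) δ₁ δ₂ hw _ h3
  have h5 : IsLocalRing.closedPoint B' ∈ Set.range (K133.Rigid.eqι (U.ι ≫ f) δ₁ δ₂ hw) :=
    h4 ⟨IsLocalRing.closedPoint B, closedPoint_eq φ hφ⟩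
  have h6 := K133.Rigid.comp_eq_of_range_subset (U.ι ≫ f) δ₁ δ₂ hw (𝟙 _) (by
    rintro t -
    exact (IsLocalRing.specializes_closedPoint t).mem_open
      (K133.Rigid.eqι (U.ι ≫ f) δ₁ δ₂ hw).isOpenEmbedding.isOpen_range h5)
  rw [Category.id_comp, Category.id_comp] at h6
  rw [← e1, ← e2, h6]

end K133.LocalLift
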