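import Groth.Agent.UnramB.StalkNhd
import Mathlib.RingTheory.Unramified.LocalRing
import Mathlib.AlgebraicGeometry.Morphisms.FormallyUnramified

/-!
# Unramified at a point in terms of the local ring of the fibre
-/

set_option autoImplicit false
universe u

open CategoryTheory CategoryTheory.Limits AlgebraicGeometry IsLocalRing

namespace K133.UnramFibRing

/-- the condition on the fibre ring -/
def FibCond {R S : Type u} [CommRing R] [CommRing S] [IsLocalRing R] (φ : R →+* S) : Prop :=
  letI := (Ideal.quotientMap ((maximalIdeal R).map φ) φ Ideal.le_comap_map).toAlgebra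
  IsField (S ⧸ (maximalIdeal R).map φ) ∧
    Module.Finite (R ⧸ maximalIdeal R) (S ⧸ (maximalIdeal R).map φ) ∧
    Algebra.IsSeparable (R ⧸ maximalIdeal R) (S ⧸ (maximalIdeal R).map φ)

theorem fibCond_aux {R S : Type u} [CommRing R] [CommRing S] [IsLocalRing R] [IsLocalRing S]
    [Algebra R S] [IsLocalHom (algebraMap R S)] (I : Ideal S) (hI : I = maximalIdeal S)
    (hle : maximalIdeal R ≤ I.comap (algebraMap R S)) :
    (letI := (Ideal.quotientMap I (algebraMap R S) hle).toAlgebra;
      Module.Finite (R ⧸ maximalIdeal R) (S ⧸ I) ∧ Algebra.IsSeparable (R ⧸ maximalIdeal R) (S ⧸ I)) ↔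
    (Module.Finite (ResidueField R) (ResidueField S) ∧
      Algebra.IsSeparable (ResidueField R) (ResidueField S)) := by
  subst hI
  have h : (Ideal.quotientMap (maximalIdeal S) (algebraMap R S) hle).toAlgebra =
      (inferInstance : Algebra (ResidueField R) (ResidueField S)) := by
    apply Algebra.algebra_ext
    intro r
    obtain ⟨r, rfl⟩ := Ideal.Quotient.mk_surjective r
    rfl
  rw [h]
  rfl

theorem fibCond_iff {R S : Type u} [CommRing R] [CommRing S] [IsLocalRing R] [IsLocalRing S]
    [Algebra R S] [IsLocalHom (algebraMap R S)] [Algebra.EssFiniteType R S] :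
    FibCond (algebraMap R S) ↔ Algebra.FormallyUnramified R S := by
  constructor
  · rintro ⟨h1, h2, h3⟩
    have hmax : ((maximalIdeal R).map (algebraMap R S)).IsMaximal :=
      (Ideal.Quotient.maximal_ideal_iff_isField_quotient _).mpr h1
    have hI := IsLocalRing.eq_maximalIdeal hmax
    have h4 := ((fibCond_aux _ hI Ideal.le_comap_map).mp ⟨h2, h3⟩).2
    exact Algebra.FormallyUnramified.iff_map_maximalIdeal_eq.mpr ⟨h4, hI⟩
  · intro h
    have hI := Algebra.FormallyUnramified.map_maximalIdeal (R := R) (S := S)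
    obtain ⟨h1, h2⟩ := (fibCond_aux _ hI Ideal.le_comap_map).mpr ⟨inferInstance, inferInstance⟩
    exact ⟨Algebra.FormallyUnramified.isField_quotient_map_maximalIdeal, h1, h2⟩

theorem fibCond_stalkMap_iff {X Y : Scheme.{u}} (f : X ⟶ Y) [LocallyOfFiniteType f] (x : X) :
    FibCond (f.stalkMap x).hom ↔ (f.stalkMap x).hom.FormallyUnramified := by
  have := LocallyOfFiniteType.stalkMap f x
  algebraize [(f.stalkMap x).hom]
  have : IsLocalHom (algebraMap (Y.presheaf.stalk (f x)) (X.presheaf.stalk x)) :=
    inferInstanceAs (IsLocalHom (f.stalkMap x).hom)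
  exact fibCond_iff

theorem formallyUnramified_iff_forall_stalkMap {X Y : Scheme.{u}} (f : X ⟶ Y) [LocallyOfFiniteType f] :
    FormallyUnramified f ↔ ∀ x : X, (f.stalkMap x).hom.FormallyUnramified := by
  constructor
  · intro h x
    exact FormallyUnramified.stalkMap f x
  · intro h
    have h1 := fun x => (Groth.Agent.UnramB.StalkNhd.exists_nhd_formallyUnramified_iff f x).mpr (h x)
    choose U hxU hU using h1
    have hU' : ⨆ x, U x = ⊤ := by
      rw [← top_le_iff]
      intro x _
      exact TopologicalSpace.Opens.mem_iSup.mpr ⟨x, hxU x⟩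
    rw [IsZariskiLocalAtSource.iff_of_iSup_eq_top (P := @FormallyUnramified) U hU']
    exact hU

theorem etale_iff {X Y : Scheme.{u}} (f : X ⟶ Y) [LocallyOfFinitePresentation f] :
    Etale f ↔ Flat f ∧ ∀ x : X, FibCond (f.stalkMap x).hom := by
  rw [Etale.iff_flat_and_formallyUnramified, formallyUnramified_iff_forall_stalkMap]
  simp only [fibCond_stalkMap_iff]
  tauto

end K133.UnramFibRing
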