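import Groth.Agent.VarietyA.GeomRedSmooth
import Groth.Agent.Ega4C.SmoothRegular
import Mathlib.RingTheory.Smooth.Locus
import Mathlib.RingTheory.Nilpotent.GeometricallyReduced
import Mathlib.RingTheory.Localization.LocalizationLocalization

/-!
# Smoothness at minimal primes of algebras of finite type over a field
-/

set_option autoImplicit false
universe u

open TensorProduct

namespace K133.GenSmooth

variable (k A : Type u) [Field k] [CommRing A] [Algebra k A] [Algebra.FiniteType k A]

theorem isGeometricallyReduced_of_isSmoothAt (p : Ideal A) [p.IsPrime] (h : Algebra.IsSmoothAt k p) :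
    Algebra.IsGeometricallyReduced k (Localization.AtPrime p) := by
  have : Algebra.FinitePresentation k A := Algebra.FinitePresentation.of_finiteType.mp inferInstance
  obtain ⟨f, hf, hs⟩ := Algebra.IsSmoothAt.exists_notMem_smooth k p
  rw [Algebra.isGeometricallyReduced_field_iff]
  let Af := Localization.Away f
  have hle : Submonoid.powers f ≤ p.primeCompl := by
    rw [Submonoid.powers_le]
    exact hf
  let : Algebra Af (Localization.AtPrime p) :=
    IsLocalization.localizationAlgebraOfSubmonoidLe Af (Localization.AtPrime p)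
      (Submonoid.powers f) p.primeCompl hle
  have : IsScalarTower A Af (Localization.AtPrime p) :=
    IsLocalization.localization_isScalarTower_of_submonoid_le _ _ _ _ hle
  have : IsScalarTower k Af (Localization.AtPrime p) := IsScalarTower.of_algebraMap_eq (fun x => by
    rw [IsScalarTower.algebraMap_apply k A Af, ← IsScalarTower.algebraMap_apply A Af,
      ← IsScalarTower.algebraMap_apply k A])
  have := IsLocalization.isLocalization_of_submonoid_le Af (Localization.AtPrime p)
    (Submonoid.powers f) p.primeCompl hle
  exact Groth.Agent.VarietyA.GeomRedSmooth.isReduced_tensor_localization k (AlgebraicClosure k) Af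
    (Localization.AtPrime p) (p.primeCompl.map (algebraMap A Af))
    (Groth.Agent.VarietyA.GeomRedSmooth.isReduced_of_smooth (AlgebraicClosure k)
      (AlgebraicClosure k ⊗[k] Af))

theorem isSmoothAt_of_isGeometricallyReduced (p : Ideal A) [p.IsPrime] (hp : p ∈ minimalPrimes A)
    (h : Algebra.IsGeometricallyReduced k (Localization.AtPrime p)) : Algebra.IsSmoothAt k p := by
  have hred : IsReduced (Localization.AtPrime p) := Algebra.isReduced_of_isGeometricallyReduced (k := k)
  have hK : IsField (Localization.AtPrime p) := by
    rw [← PrimeSpectrum.subsingleton_iff_isField_of_isReduced]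
    exact IsLocalization.subsingleton_primeSpectrum_of_mem_minimalPrimes _ hp (Localization.AtPrime p)
  let := hK.toField
  have : Algebra.EssFiniteType k (Localization.AtPrime p) := Algebra.EssFiniteType.comp k A _
  exact Groth.Agent.Ega4C.SmoothRegular.formallySmooth_of_isGeometricallyReduced k (Localization.AtPrime p)

theorem exists_dense_iff :
    (∃ U : TopologicalSpace.Opens (PrimeSpectrum A), Dense (U : Set (PrimeSpectrum A)) ∧
        ∀ p ∈ U, Algebra.IsSmoothAt k p.asIdeal) ↔
      ∀ (p : Ideal A) [p.IsPrime], p ∈ minimalPrimes A →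
        Algebra.IsGeometricallyReduced k (Localization.AtPrime p) := by
  have : Algebra.FinitePresentation k A := Algebra.FinitePresentation.of_finiteType.mp inferInstance
  have : IsNoetherianRing A := Algebra.FiniteType.isNoetherianRing k A
  constructor
  · rintro ⟨U, hU, hs⟩ p hp hpm
    refine isGeometricallyReduced_of_isSmoothAt k A p (hs ⟨p, hp⟩ ?_)
    -- the minimal primes different from `p` form a finite set, whose zero locus does not contain `p`
    have hfin : (minimalPrimes A \ {p}).Finite := (minimalPrimes.finite_of_isNoetherianRing A).subset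
      Set.diff_subset
    let Z : Set (PrimeSpectrum A) := ⋃ q ∈ minimalPrimes A \ {p}, PrimeSpectrum.zeroLocus (q : Set A)
    have hZ : IsClosed Z := hfin.isClosed_biUnion fun q _ => PrimeSpectrum.isClosed_zeroLocus _
    have hpZ : (⟨p, hp⟩ : PrimeSpectrum A) ∉ Z := by
      intro h
      simp only [Z, Set.mem_iUnion, PrimeSpectrum.mem_zeroLocus, SetLike.coe_subset_coe] at h
      obtain ⟨q, ⟨hq1, hq2⟩, hqp⟩ := h
      exact hq2 (le_antisymm hqp (hpm.2 ⟨hq1.1.1, bot_le⟩ hqp))
    obtain ⟨y, hy1, hy2⟩ := hU.inter_open_nonempty Zᶜ hZ.isOpen_compl ⟨_, hpZ⟩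
    have hpy : p ≤ y.asIdeal := by
      obtain ⟨q, hq, hqy⟩ := Ideal.exists_minimalPrimes_le (bot_le (a := y.asIdeal))
      by_cases hqp : q = p
      · rw [← hqp]; exact hqy
      · exact absurd (Set.mem_biUnion (show q ∈ minimalPrimes A \ {p} from ⟨hq, hqp⟩)
          (show y ∈ PrimeSpectrum.zeroLocus (q : Set A) from hqy)) hy1
    have hspec : (⟨p, hp⟩ : PrimeSpectrum A) ⤳ y := (PrimeSpectrum.le_iff_specializes _ _).mp hpy
    exact hspec.mem_open U.2 hy2
  · intro h
    refine ⟨⟨Algebra.smoothLocus k A, Algebra.isOpen_smoothLocus⟩, ?_, fun p hp => hp⟩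
    intro y
    obtain ⟨q, hq, hqy⟩ := Ideal.exists_minimalPrimes_le (bot_le (a := y.asIdeal))
    have hqp : q.IsPrime := hq.1.1
    have hspec : (⟨q, hqp⟩ : PrimeSpectrum A) ⤳ y := (PrimeSpectrum.le_iff_specializes _ _).mp hqy
    exact hspec.mem_closed isClosed_closure (subset_closure
      (show _ ∈ Algebra.smoothLocus k A from isSmoothAt_of_isGeometricallyReduced k A q hq (h q hq)))

end K133.GenSmooth
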